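import Mathlib.LinearAlgebra.Matrix.NonsingularInverse
import Mathlib.RingTheory.Ideal.Operations

/-!
# P1 (helper405): right invertible matrices and maximal minors

`exists_mul_eq_one_iff` : `M * S = 1` is solvable iff the maximal minors `det (M.submatrix id I)`, `I : ι → κ`, generate
the unit ideal.  `pair_iff` : the same for a pair of matrices and the products of minors.
-/

set_option autoImplicit false
set_option linter.unusedSectionVars false

open Matrix

namespace Groth.Agent.ResProp.EF.K405

variable {ι κ ι' κ' : Type*} [Fintype ι] [DecidableEq ι] [Fintype κ] [Fintype ι'] [DecidableEq ι'] [Fintype κ']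
variable {T : Type*} [CommRing T]

/-- expansion of the determinant of a product -/
theorem det_mul_expand (M : Matrix ι κ T) (S : Matrix κ ι T) :
    (M * S).det = ∑ I : ι → κ, (∏ i, S (I i) i) * (M.submatrix id I).det := by
  classical
  rw [← Matrix.det_transpose]
  have h : (M * S)ᵀ = fun i => ∑ j : κ, S j i • (fun l => M l j) := by
    ext i l
    simp [Matrix.mul_apply, Finset.sum_apply, mul_comm]
  rw [h]
  change (Matrix.detRowAlternating : (ι → T) [⋀^ι]→ₗ[T] T).toMultilinearMap (fun i => ∑ j : κ, S j i • (fun l => M l j)) = _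
  rw [MultilinearMap.map_sum]
  refine Finset.sum_congr rfl fun I _ => ?_
  rw [MultilinearMap.map_smul_univ]
  rw [smul_eq_mul]
  congr 1
  rw [← Matrix.det_transpose]
  rfl

/-- the ideal of the maximal minors -/
def minors (M : Matrix ι κ T) : Ideal T := Ideal.span (Set.range fun I : ι → κ => (M.submatrix id I).det)

theorem minors_eq_top_of_mul_eq_one {M : Matrix ι κ T} {S : Matrix κ ι T} (h : M * S = 1) : minors M = ⊤ := by
  rw [Ideal.eq_top_iff_one]
  have h1 : (M * S).det = 1 := by rw [h, Matrix.det_one]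
  rw [← h1, det_mul_expand]
  exact Submodule.sum_mem _ fun I _ => Ideal.mul_mem_left _ _ (Ideal.subset_span ⟨I, rfl⟩)

/-- the matrix with `M * sel I = M.submatrix id I` -/
theorem exists_sel (I : ι → κ) : ∃ E : Matrix κ ι T, ∀ M : Matrix ι κ T, M * E = M.submatrix id I := by
  classical
  refine ⟨Matrix.of fun j i => if j = I i then 1 else 0, fun M => ?_⟩
  ext a i
  simp [Matrix.mul_apply]

theorem exists_mul_eq_one_of_minors {M : Matrix ι κ T} (h : minors M = ⊤) : ∃ S : Matrix κ ι T, M * S = 1 := by
  classical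
  obtain ⟨c, hc⟩ := (Submodule.mem_span_range_iff_exists_fun T).1 ((Ideal.eq_top_iff_one _).1 h)
  choose E hE using fun I : ι → κ => exists_sel (T := T) I
  refine ⟨∑ I : ι → κ, c I • (E I * (M.submatrix id I).adjugate), ?_⟩
  rw [Matrix.mul_sum]
  have h1 : ∀ I : ι → κ, M * (c I • (E I * (M.submatrix id I).adjugate)) = (c I * (M.submatrix id I).det) • (1 : Matrix ι ι T) := by
    intro I
    rw [Matrix.mul_smul, ← Matrix.mul_assoc, hE, Matrix.mul_adjugate, smul_smul]
  rw [Finset.sum_congr rfl fun I _ => h1 I, ← Finset.sum_smul]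
  simp only [smul_eq_mul] at hc
  rw [hc, one_smul]

/-- **P1** -/
theorem exists_mul_eq_one_iff (M : Matrix ι κ T) :
    (∃ S : Matrix κ ι T, M * S = 1) ↔ Ideal.span (Set.range fun I : ι → κ => (M.submatrix id I).det) = ⊤ :=
  ⟨fun ⟨_, h⟩ => minors_eq_top_of_mul_eq_one h, exists_mul_eq_one_of_minors⟩

/-- the products of minors of two matrices -/
theorem span_pair_eq_mul (M : Matrix ι κ T) (M' : Matrix ι' κ' T) :
    Ideal.span (Set.range fun z : (ι → κ) × (ι' → κ') => (M.submatrix id z.1).det * (M'.submatrix id z.2).det) =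
      minors M * minors M' := by
  unfold minors
  rw [Ideal.span_mul_span']
  congr 1
  ext t
  constructor
  · rintro ⟨z, rfl⟩
    exact Set.mul_mem_mul ⟨z.1, rfl⟩ ⟨z.2, rfl⟩
  · rintro ⟨_, ⟨I, rfl⟩, _, ⟨J, rfl⟩, rfl⟩
    exact ⟨(I, J), rfl⟩

/-- **P1 for a pair** -/
theorem pair_iff (M : Matrix ι κ T) (M' : Matrix ι' κ' T) :
    ((∃ S : Matrix κ ι T, M * S = 1) ∧ ∃ S' : Matrix κ' ι' T, M' * S' = 1) ↔
      Ideal.span (Set.range fun z : (ι → κ) × (ι' → κ') => (M.submatrix id z.1).det * (M'.submatrix id z.2).det) = ⊤ := by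
  rw [span_pair_eq_mul, exists_mul_eq_one_iff, exists_mul_eq_one_iff]
  change minors M = ⊤ ∧ minors M' = ⊤ ↔ _
  constructor
  · rintro ⟨h1, h2⟩
    rw [h1, h2, Ideal.top_mul]
  · intro h
    exact ⟨top_le_iff.1 (h ▸ Ideal.mul_le_left), top_le_iff.1 (h ▸ Ideal.mul_le_right)⟩

/-- functoriality of the minors -/
theorem map_minor {T' : Type*} [CommRing T'] (f : T →+* T') (M : Matrix ι κ T) (I : ι → κ) :
    ((M.map f).submatrix id I).det = f (M.submatrix id I).det := by
  rw [RingHom.map_det]
  rfl

/-- Cramer: `det (M_I) • M j` is the combination of the columns in `I` with the minors where column `i` is replaced -/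
theorem cramer_cols (M : Matrix ι κ T) (I : ι → κ) (j : κ) (b : ι) :
    (M.submatrix id I).det * M b j = ∑ i, M b (I i) * ((M.submatrix id I).updateCol i (fun a => M a j)).det := by
  have h := congrFun (Matrix.mulVec_cramer (M.submatrix id I) (fun a => M a j)) b
  simp only [Matrix.mulVec, dotProduct, Matrix.submatrix_apply, id_eq, Matrix.cramer_apply, Pi.smul_apply,
    smul_eq_mul] at h
  exact h.symm

end Groth.Agent.ResProp.EF.K405
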